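import Cfsg.Agent.Lib.Chevalley.Twist.InstF4
import Cfsg.Agent.Lib.Chevalley.Levi

/-!
# The groups ²F₄(q) have no alternating section of degree seven

An element of order seven of such a section would be squared by some element normalising a
subgroup of the torus, and the Weyl group has order sixteen.
-/

set_option autoImplicit false
set_option linter.unusedSectionVars false

universe u

namespace CfsgLib.KnownC.AltSection

open CfsgLib.Chevalley CfsgLib.Chevalley.Tbl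

theorem conj_eq_of_canonical {T : Tbl} {F : Type u} [Field F] (hT : T.Valid) (hC : T.chkComm = true)
    {a n u h₁ h₂ g : GL T.I F} {w : Equiv.Perm (Fin T.n)}
    (ha : a ∈ T.rootGen F (fun r => T.half ≤ r)) (hn : n ∈ T.datum.monomialSubgroup F) (hm : T.Mono n w)
    (hu : u ∈ T.rootGen F (T.negSet w)) (hg : g = a * n * u) (h1 : h₁ ∈ T.datum.diagonalSubgroup F)
    (h2 : h₂ ∈ T.datum.diagonalSubgroup F) (hc : g * h₁ * g⁻¹ = h₂) : n * h₁ * n⁻¹ = h₂ := by
  rw [← posUnipotent_rootGen hT] at ha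
  have haB : a ∈ T.datum.borelSubgroup F := Subgroup.mem_sup_left ha
  have hnh : n * h₁ * n⁻¹ ∈ T.datum.diagonalSubgroup F := conj_diag hT hn h1
  have hu' : h₁⁻¹ * u * h₁ ∈ T.rootGen F (T.negSet w) := by
    have := (Subgroup.mem_normalizer_iff.mp (diag_le_normalizer hT (T.negSet w) (inv_mem h1)) u).mp hu
    rwa [inv_inv] at this
  have heq : (h₂ * a) * n * u = (a * (n * h₁ * n⁻¹)) * n * (h₁⁻¹ * u * h₁) := by
    have : h₂ * g = g * h₁ := by rw [← hc, inv_mul_cancel_right]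
    rw [hg] at this
    calc h₂ * a * n * u = h₂ * (a * n * u) := by group
      _ = a * n * u * h₁ := this
      _ = _ := by group
  obtain ⟨-, h2'⟩ := canonical_unique hT hC (mul_mem (Subgroup.mem_sup_right h2) haB)
    (mul_mem haB (Subgroup.mem_sup_right hnh)) hn hn hm hu hu' heq
  have hB := (h2' hm rfl).1
  have hN : h₂ * a * h₂⁻¹ ∈ T.datum.posUnipotent F := by
    have hle : T.datum.diagonalSubgroup F ≤
        Subgroup.normalizer (T.datum.posUnipotent F : Set (GL T.I F)) := by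
      rw [posUnipotent_rootGen hT]; exact diag_le_normalizer hT _
    exact (Subgroup.mem_normalizer_iff.mp (hle h2) a).mp ha
  have hkey : a⁻¹ * (h₂ * a * h₂⁻¹) = n * h₁ * n⁻¹ * h₂⁻¹ := by
    calc a⁻¹ * (h₂ * a * h₂⁻¹) = a⁻¹ * (h₂ * a) * h₂⁻¹ := by group
      _ = a⁻¹ * (a * (n * h₁ * n⁻¹)) * h₂⁻¹ := by rw [hB]
      _ = _ := by group
  have hmem : n * h₁ * n⁻¹ * h₂⁻¹ ∈ (⊥ : Subgroup (GL T.I F)) := by
    rw [← pos_inf_diag (T := T) (F := F) hT]
    refine Subgroup.mem_inf.mpr ⟨?_, mul_mem hnh (inv_mem h2)⟩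
    rw [← hkey]
    exact mul_mem (inv_mem ha) hN
  rw [Subgroup.mem_bot, mul_inv_eq_one] at hmem
  exact hmem

/-- The order of `²F₄(q)` splits off the seven part of the torus. -/
theorem seven_index {q N : ℕ} (hq : 2 ≤ q) (h8 : ∃ m, q = 2 ^ (2 * m + 1))
    (hN : N = q ^ 12 * (q - 1) * (q ^ 3 + 1) * (q ^ 4 - 1) * (q ^ 6 + 1)) :
    ¬ 7 ∣ N ∨ ∃ M, N = (q - 1) ^ 2 * M ∧ ¬ 7 ∣ M := by
  obtain ⟨m, hm⟩ := h8
  have h1 : ((q : ZMod 7)) ^ 3 = 1 := by
    rw [hm, Nat.cast_pow, ← pow_mul, mul_comm, pow_mul]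
    have : ((2 : ℕ) : ZMod 7) ^ 3 = 1 := by decide
    rw [this, one_pow]
  have key : ∀ x : ZMod 7, x ^ 3 = 1 →
      x ^ 12 * (x ^ 3 + 1) * ((x + 1) * (x ^ 2 + 1)) * (x ^ 6 + 1) ≠ 0 ∧
      (x ≠ 1 → x ^ 12 * (x - 1) * (x ^ 3 + 1) * (x ^ 4 - 1) * (x ^ 6 + 1) ≠ 0) := by decide
  obtain ⟨hA, hB⟩ := key _ h1
  by_cases hx : (q : ZMod 7) = 1
  · refine Or.inr ⟨q ^ 12 * (q ^ 3 + 1) * ((q + 1) * (q ^ 2 + 1)) * (q ^ 6 + 1), ?_, ?_⟩
    · have e : q ^ 4 - 1 = (q - 1) * ((q + 1) * (q ^ 2 + 1)) := by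
        obtain ⟨s, rfl⟩ : ∃ s, q = s + 1 := ⟨q - 1, by omega⟩
        have : (s + 1) ^ 4 = s * ((s + 1 + 1) * ((s + 1) ^ 2 + 1)) + 1 := by ring
        simp only [Nat.add_sub_cancel]
        omega
      rw [hN, e]; ring
    · intro h
      apply hA
      have := (ZMod.natCast_eq_zero_iff _ 7).2 h
      push_cast at this
      exact this
  · refine Or.inl fun h => hB hx ?_
    have := (ZMod.natCast_eq_zero_iff _ 7).2 h
    rw [hN] at this
    have h4 : 1 ≤ q ^ 4 := Nat.one_le_pow _ _ (by omega)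
    push_cast [h4, (by omega : 1 ≤ q)] at this
    exact this

/-- Two permutations of `r ≥ 7` points in the alternating group, one squaring the other. -/
theorem exists_squaring {r : ℕ} (hr : 7 ≤ r) :
    ∃ x c : ↥(alternatingGroup (Fin r)), orderOf x = 7 ∧ c * x * c⁻¹ = x ^ 2 := by
  let f : Fin 7 ≃ {i : Fin r // (i : ℕ) < 7} :=
    { toFun := fun i => ⟨⟨i, lt_of_lt_of_le i.2 hr⟩, i.2⟩
      invFun := fun i => ⟨(i.1 : ℕ), i.2⟩
      left_inv := fun _ => rfl
      right_inv := fun _ => rfl }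
  let E := Equiv.Perm.extendDomainHom f
  let X : Equiv.Perm (Fin 7) := finRotate 7
  let C : Equiv.Perm (Fin 7) :=
    { toFun := fun i => 2 * i
      invFun := fun i => 4 * i
      left_inv := by unfold Function.LeftInverse; decide
      right_inv := by unfold Function.RightInverse Function.LeftInverse; decide }
  have hs : Equiv.Perm.sign X = 1 ∧ Equiv.Perm.sign C = 1 ∧ C * X * C⁻¹ = X ^ 2 ∧ X ^ 7 = 1 ∧ X ≠ 1 := by
    decide +kernel
  have hmem : ∀ σ : Equiv.Perm (Fin 7), Equiv.Perm.sign σ = 1 → E σ ∈ alternatingGroup (Fin r) := fun σ h =>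
    Equiv.Perm.mem_alternatingGroup.2 ((Equiv.Perm.sign_extendDomain σ f).trans h)
  refine ⟨⟨E X, hmem X hs.1⟩, ⟨E C, hmem C hs.2.1⟩, ?_, Subtype.ext ?_⟩
  · haveI : Fact (Nat.Prime 7) := ⟨by norm_num⟩
    refine orderOf_eq_prime (Subtype.ext ?_) fun h => hs.2.2.2.2 ?_
    · show (E X) ^ 7 = 1
      rw [← map_pow, hs.2.2.2.1, map_one]
    · exact Equiv.Perm.extendDomainHom_injective f ((congrArg Subtype.val h).trans (map_one E).symm)
  · show E C * E X * (E C)⁻¹ = (E X) ^ 2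
    rw [← map_inv, ← map_mul, ← map_mul, hs.2.2.1, map_pow]

/-- A finite group with a torus controlling fusion by a group of sixteen-torsion has no such section. -/
theorem no_squaring {G : Type*} [Group G] [Finite G] (A : Subgroup G)
    (hA : ∀ P : Subgroup G, IsPGroup 7 P → ∃ a : G, P.map (MulAut.conj a).toMonoidHom ≤ A)
    (hfus : ∀ g : G, ∀ P : Subgroup G, P ≤ A → (∀ y ∈ P, g * y * g⁻¹ ∈ P) →
      ∀ y ∈ P, g ^ 16 * y * (g ^ 16)⁻¹ = y)
    {Q : Type*} [Group Q] {H : Subgroup G} (π : ↥H →* Q) (hπ : Function.Surjective π)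
    {x c : Q} (hx : orderOf x = 7) (hc : c * x * c⁻¹ = x ^ 2) : False := by
  classical
  haveI : Fact (Nat.Prime 7) := ⟨by norm_num⟩
  obtain ⟨ch, rfl⟩ := hπ c
  set J := (Subgroup.zpowers x).comap π with hJ
  let P : Sylow 7 ↥J := default
  have hchJ : ∀ j ∈ J, ch * j * ch⁻¹ ∈ J := by
    intro j hj
    obtain ⟨k, hk⟩ := Subgroup.mem_zpowers_iff.1 hj
    refine Subgroup.mem_comap.2 (Subgroup.mem_zpowers_iff.2 ⟨2 * k, ?_⟩)
    rw [map_mul, map_mul, map_inv, ← hk, ← _root_.conj_zpow, hc, ← zpow_natCast, ← zpow_mul, Nat.cast_ofNat]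
  -- the image of `P` contains `x`
  have hPx : ∃ y ∈ (P : Subgroup ↥J), π (y : ↥H) = x := by
    obtain ⟨z, hz⟩ := hπ x
    have hzJ : z ∈ J := Subgroup.mem_comap.2 (hz ▸ Subgroup.mem_zpowers x)
    let φ : ↥J →* ↥(Subgroup.zpowers x) :=
      (π.comp J.subtype).codRestrict _ fun j => Subgroup.mem_comap.1 j.2
    have hφ : Function.Surjective φ := fun ⟨q, hq⟩ => by
      obtain ⟨w, hw⟩ := hπ q
      exact ⟨⟨w, Subgroup.mem_comap.2 (hw ▸ hq)⟩, Subtype.ext hw⟩
    haveI : Finite ↥(Subgroup.zpowers x) := Finite.of_surjective φ hφ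
    have htop : ((P.mapSurjective hφ : Sylow 7 _) : Subgroup ↥(Subgroup.zpowers x)) = ⊤ := by
      refine Subgroup.eq_top_of_le_card _ (le_of_eq ?_)
      rw [Sylow.card_eq_multiplicity, Nat.card_zpowers, hx, Nat.Prime.factorization_self (by norm_num), pow_one]
    have : φ ⟨z, hzJ⟩ ∈ ((P.mapSurjective hφ : Sylow 7 _) : Subgroup ↥(Subgroup.zpowers x)) :=
      htop ▸ Subgroup.mem_top _
    rw [Sylow.coe_mapSurjective] at this
    obtain ⟨y, hy, e⟩ := this
    exact ⟨y, hy, (congrArg Subtype.val e).trans hz⟩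
  obtain ⟨y, hy, hyx⟩ := hPx
  -- an element inducing the squaring and normalising `P`
  let β : MulAut ↥J :=
    { toFun := fun j => ⟨ch * j * ch⁻¹, hchJ j j.2⟩
      invFun := fun j => ⟨ch⁻¹ * j * ch, by
        have h : J.map (MulAut.conj ch).toMonoidHom = J := by
          refine Subgroup.eq_of_le_of_card_ge ?_ ?_
          · rintro _ ⟨i, hi, rfl⟩; exact hchJ i hi
          · rw [Subgroup.card_map_of_injective (MulAut.conj ch).injective]
        obtain ⟨i, hi, e⟩ := (h.symm ▸ j.2 : (j : ↥H) ∈ J.map (MulAut.conj ch).toMonoidHom)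
        rw [← e]
        simpa [MulAut.conj_apply, mul_assoc] using hi⟩
      left_inv := fun j => Subtype.ext (by group)
      right_inv := fun j => Subtype.ext (by group)
      map_mul' := fun a b => Subtype.ext (by push_cast; group) }
  obtain ⟨j, hj⟩ := MulAction.exists_smul_eq ↥J (β • P) P
  set g : ↥H := (j : ↥H) * ch with hgdef
  set PH : Subgroup ↥H := (P : Subgroup ↥J).map J.subtype with hPH
  set PG : Subgroup G := PH.map H.subtype with hPG
  have hnorm : ∀ z ∈ PH, g * z * g⁻¹ ∈ PH := by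
    rintro _ ⟨p, hp, rfl⟩
    refine ⟨MulAut.conj j (β p), ?_, ?_⟩
    · have := show MulAut.conj j (β p) ∈ ((j • β • P : Sylow 7 ↥J) : Subgroup ↥J) from
        ⟨β p, ⟨p, hp, rfl⟩, rfl⟩
      rwa [hj] at this
    · show (j : ↥H) * (ch * p * ch⁻¹) * (j : ↥H)⁻¹ = g * p * g⁻¹
      rw [hgdef]; group
  have hnormG : ∀ z ∈ PG, (g : G) * z * (g : G)⁻¹ ∈ PG := by
    rintro _ ⟨p, hp, rfl⟩
    exact ⟨g * p * g⁻¹, hnorm p hp, by simp⟩
  obtain ⟨a, ha⟩ := hA PG ((P.isPGroup'.map _).map _)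
  have h16 := hfus (a * g * a⁻¹) _ ha (by
    rintro _ ⟨z, hz, rfl⟩
    exact ⟨g * z * (g : G)⁻¹, hnormG z hz, by simp [MulAut.conj_apply, mul_assoc]⟩)
    (a * ((y : ↥H) : G) * a⁻¹) ⟨_, ⟨(y : ↥H), ⟨y, hy, rfl⟩, rfl⟩, rfl⟩
  rw [_root_.conj_pow] at h16
  have h16' : g ^ 16 * (y : ↥H) * (g ^ 16)⁻¹ = y := by
    refine Subtype.ext ?_
    push_cast
    have := congrArg (fun t => a⁻¹ * t * a) h16
    simpa [mul_assoc] using this
  have hgx : π g * x * (π g)⁻¹ = x ^ 2 := by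
    obtain ⟨k, hk⟩ := Subgroup.mem_zpowers_iff.1 (Subgroup.mem_comap.1 j.2 : π (j : ↥H) ∈ Subgroup.zpowers x)
    rw [hgdef, map_mul, ← hk, mul_inv_rev,
      show x ^ k * π ch * x * ((π ch)⁻¹ * (x ^ k)⁻¹) = x ^ k * (π ch * x * (π ch)⁻¹) * (x ^ k)⁻¹ by group, hc]
    group
  have hiter : ∀ k : ℕ, (π g) ^ k * x * ((π g) ^ k)⁻¹ = x ^ 2 ^ k := by
    intro k
    induction k with
    | zero => simp
    | succ k ih =>
      rw [pow_succ', mul_inv_rev, show π g * π g ^ k * x * ((π g ^ k)⁻¹ * (π g)⁻¹) =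
        π g * (π g ^ k * x * (π g ^ k)⁻¹) * (π g)⁻¹ by group, ih, ← _root_.conj_pow, hgx, ← pow_mul, ← pow_succ']
  have h := congrArg π h16'
  rw [map_mul, map_mul, map_inv, map_pow, hyx, hiter 16] at h
  have h65535 : x ^ (2 ^ 16 - 1) = 1 := by
    refine mul_right_cancel (b := x) ?_
    rw [one_mul, ← pow_succ, Nat.sub_add_cancel Nat.one_le_two_pow, h]
  have := orderOf_dvd_of_pow_eq_one h65535
  rw [hx] at this
  norm_num at this

section Ree

open CfsgLib.Chevalley.Twist.F4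

local notation "T4" => Data.F4.tbl

variable {K : Type u} [Field K] [Finite K] {m : ℕ} (hK : Nat.card K = 2 ^ (2 * m + 1))
include hK

theorem alt_le_six (H : Subgroup ↥(S hK).fix) (N : Subgroup ↥H) [N.Normal] (r : ℕ)
    (h : Nonempty (↥H ⧸ N ≃* ↥(alternatingGroup (Fin r)))) : r ≤ 6 := by
  classical
  by_contra hr
  obtain ⟨x, c, hx, hc⟩ := exists_squaring (r := r) (by omega)
  obtain ⟨e⟩ := h
  haveI : Fact (Nat.Prime 7) := ⟨by norm_num⟩
  haveI : Finite ↥(S hK).fix := by rw [← grp_eq_fix hK]; infer_instance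
  let G := ↥(S hK).fix
  set q := 2 ^ (2 * m + 1) with hq
  have hcard : Nat.card G = q ^ 12 * (q - 1) * (q ^ 3 + 1) * (q ^ 4 - 1) * (q ^ 6 + 1) := by
    show Nat.card ↥(S hK).fix = _
    rw [← grp_eq_fix hK, card_eq hK]
  set A : Subgroup G := ((T4).datum.diagonalSubgroup K).subgroupOf (S hK).fix with hAdef
  have hAcard : Nat.card A = (q - 1) ^ 2 := by
    rw [← card_diag hK, hAdef, ← Subgroup.inf_subgroupOf_right]
    exact Nat.card_congr (Subgroup.subgroupOfEquivOfLe inf_le_right).toEquiv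
  have hsur : Function.Surjective (e.toMonoidHom.comp (QuotientGroup.mk' N)) :=
    e.surjective.comp (QuotientGroup.mk'_surjective N)
  have h7G : 7 ∣ Nat.card G := by
    obtain ⟨z, hz⟩ := hsur x
    have h1 : 7 ∣ orderOf z := by rw [← hx, ← hz]; exact orderOf_map_dvd _ z
    exact (h1.trans (orderOf_dvd_natCard z)).trans (Subgroup.card_subgroup_dvd_card H)
  obtain h0 | ⟨M, hM, hM7⟩ := seven_index (q := q) (Nat.le_self_pow (by omega) 2) ⟨m, rfl⟩ hcard
  · exact h0 h7G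
  have hidx : ¬ 7 ∣ A.index := by
    have h1 := A.index_mul_card
    rw [hAcard, hM, mul_comm] at h1
    have : 0 < (q - 1) ^ 2 := hAcard ▸ Nat.card_pos
    rwa [Nat.eq_of_mul_eq_mul_left this h1]
  refine no_squaring A ?_ ?_ (e.toMonoidHom.comp (QuotientGroup.mk' N)) hsur hx hc
  · intro P hP
    let SA : Sylow 7 ↥A := default
    let S₀ : Sylow 7 G := (IsPGroup.map SA.isPGroup' A.subtype).toSylow (by
      rw [← Subgroup.relIndex_top_right, ← Subgroup.relIndex_mul_relIndex _ A ⊤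
        (Subgroup.map_subtype_le _) le_top, Subgroup.relIndex_top_right, Subgroup.relIndex,
        Subgroup.subgroupOf, Subgroup.comap_map_eq_self_of_injective A.subtype_injective]
      exact Nat.Prime.not_dvd_mul (by norm_num) SA.not_dvd_index hidx)
    obtain ⟨SP, hSP⟩ := hP.exists_le_sylow
    obtain ⟨a, ha⟩ := MulAction.exists_smul_eq G SP S₀
    refine ⟨a, (Subgroup.map_mono hSP).trans ?_⟩
    have h1 : (SP : Subgroup G).map (MulAut.conj a).toMonoidHom = (S₀ : Subgroup G) := by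
      rw [← ha]; rfl
    rw [h1]
    exact Subgroup.map_subtype_le _
  · intro g P hPA hnorm y hy
    obtain ⟨a, ha, -, n, hn, hnf, w, hw, hm, u, hu, -, hgeq⟩ := (S hK).fix_canonical g.2
    have key : ∀ t ∈ P, (n : GL (T4).I K) * t.1 * n⁻¹ = (g * t * g⁻¹ : G).1 := fun t ht =>
      conj_eq_of_canonical (S hK).valid (S hK).comm ha hn hm hu hgeq
        (Subgroup.mem_subgroupOf.1 (hPA ht)) (Subgroup.mem_subgroupOf.1 (hPA (hnorm t ht))) rfl
    have hpow : ∀ k : ℕ, ∀ t ∈ P, g ^ k * t * (g ^ k)⁻¹ ∈ P ∧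
        (g ^ k * t * (g ^ k)⁻¹ : G).1 = n ^ k * t.1 * (n ^ k)⁻¹ := by
      intro k
      induction k with
      | zero => intro t ht; simpa using ht
      | succ k ih =>
        intro t ht
        obtain ⟨h1, h2⟩ := ih t ht
        have e1 : g ^ (k + 1) * t * (g ^ (k + 1))⁻¹ = g * (g ^ k * t * (g ^ k)⁻¹) * g⁻¹ := by
          rw [pow_succ']; group
        rw [e1]
        refine ⟨hnorm _ h1, ?_⟩
        rw [← key _ h1, h2, pow_succ']
        group
    obtain ⟨h1, h2⟩ := hpow 16 y hy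
    refine Subtype.ext (h2.trans ?_)
    obtain ⟨φ, -, hker⟩ := weylHom hK
    have h16 : (⟨n, hn, hnf⟩ : ↥((T4).datum.monomialSubgroup K ⊓ (S hK).fix)) ^ 16 ∈ φ.ker := by
      rw [MonoidHom.mem_ker, map_pow]
      have := pow_card_eq_one' (x := φ ⟨n, hn, hnf⟩)
      rwa [DihedralGroup.nat_card] at this
    rw [hker, Subgroup.mem_subgroupOf, Subgroup.coe_pow] at h16
    rw [diag_comm (S hK).valid (Subgroup.mem_inf.1 h16).1 (Subgroup.mem_subgroupOf.1 (hPA hy)),
      mul_inv_cancel_right]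

end Ree

end CfsgLib.KnownC.AltSection
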